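import Groth.Prelude.Def_ModelsG
import Groth.Agent.Big.Cartier
import Groth.Agent.AVTheta.Cart
import Groth.Agent.ValTest.Basic
import Groth.Agent.LimMod.Crit
import Groth.Agent.UnitsLib.Coh
import Groth.Agent.QCoh.HHExact

/-!
# Cohomological flatness in dimension zero and torsion in the first cohomology
-/

set_option autoImplicit false
set_option linter.style.haveILetI false
set_option backward.isDefEq.respectTransparency false
set_option backward.isDefEq.respectTransparency.types false
set_option maxHeartbeats 1000000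

universe u

open CategoryTheory CategoryTheory.Limits AlgebraicGeometry TopologicalSpace Opposite

noncomputable section

namespace Groth.Agent.FlatH0

open Groth.Agent

variable (R : Type u) [CommRing R] [IsDomain R] [IsDiscreteValuationRing R] {X : Scheme.{u}}
  (f : X ⟶ Spec (CommRingCat.of R))

/-- The ideal of the closed fibre on an affine open is generated by the uniformizer. -/
theorem ideal_specialFibre {π : R} (hπ : Irreducible π) (V : X.affineOpens) :
    (Models.specialFibreIdeal R (Over.mk f)).ideal V =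
      Ideal.span {X.presheaf.map (homOfLE (le_top : V.1 ≤ ⊤)).op (Coh.toGlobal f π)} := by
  haveI : IsAffine V.1 := V.2
  let I : X.IdealSheafData := Models.specialFibreIdeal R (Over.mk f)
  let J : (Spec (CommRingCat.of R)).IdealSheafData := Curv2.idealSheaf R (IsLocalRing.maximalIdeal R)
  show I.ideal V = _
  have h1 := ValTest.ideal_comap_opensRange (Scheme.Opens.ι V.1) I V (Scheme.Opens.opensRange_ι _)
  have h2 : (I.comap (Scheme.Opens.ι V.1)).ideal ⟨⊤, isAffineOpen_top _⟩ =
      Ideal.span {(Scheme.Opens.ι V.1 ≫ f).appTop ((Scheme.ΓSpecIso (CommRingCat.of R)).inv π)} := by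
    show ((J.comap f).comap (Scheme.Opens.ι V.1)).ideal _ = _
    rw [← Scheme.IdealSheafData.comap_comp, ValTest.comap_eq_ofIdealTop, show J =
      Scheme.IdealSheafData.ofIdealTop ((IsLocalRing.maximalIdeal R).map (Scheme.ΓSpecIso (CommRingCat.of R)).inv.hom) from rfl,
      Scheme.IdealSheafData.ofIdealTop_ideal]
    erw [(Spec (CommRingCat.of R)).presheaf.map_id, Ideal.map_id]
    rw [hπ.maximalIdeal_eq, Ideal.map_span, Set.image_singleton, Ideal.map_span, Set.image_singleton]
  have hle : ⊤ ≤ (Scheme.Opens.ι V.1) ⁻¹ᵁ V.1 := fun z _ => z.2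
  have he : Function.Bijective ((Scheme.Opens.ι V.1).appLE V.1 ⊤ hle).hom := by
    haveI : IsIso ((Scheme.Opens.ι V.1).appLE V.1 ⊤ hle) := by
      have e : (⊤ : (V.1 : Scheme.{u}).Opens) = (Scheme.Opens.ι V.1) ⁻¹ᵁ V.1 :=
        le_antisymm hle le_top
      rw [Scheme.Hom.appLE]
      haveI : IsIso ((Scheme.Opens.ι V.1).app V.1) := Scheme.Hom.isIso_app (Scheme.Opens.ι V.1) V.1 (Scheme.Opens.opensRange_ι _).ge
      haveI : IsIso ((V.1 : Scheme.{u}).presheaf.map (homOfLE hle).op) := by
        haveI : IsIso (homOfLE hle) := ⟨homOfLE le_top, Subsingleton.elim _ _, Subsingleton.elim _ _⟩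
        infer_instance
      infer_instance
    exact ConcreteCategory.bijective_of_isIso _
  have h3 : (I.ideal V).map ((Scheme.Opens.ι V.1).appLE V.1 ⊤ hle).hom =
      (Ideal.span {X.presheaf.map (homOfLE (le_top : V.1 ≤ ⊤)).op (Coh.toGlobal f π)}).map
        ((Scheme.Opens.ι V.1).appLE V.1 ⊤ hle).hom := by
    refine (h1.symm.trans h2).trans ?_
    rw [Ideal.map_span, Set.image_singleton]
    congr 2
    show ((Scheme.Opens.ι V.1) ≫ f).appTop _ =
      (X.presheaf.map (homOfLE (le_top : V.1 ≤ ⊤)).op ≫ (Scheme.Opens.ι V.1).appLE V.1 ⊤ hle)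
        (f.appTop ((Scheme.ΓSpecIso (CommRingCat.of R)).inv π))
    rw [Scheme.Hom.map_appLE, Scheme.Hom.comp_appTop]
    show (Scheme.Opens.ι V.1).appTop _ = _
    rw [Scheme.Hom.appTop, ← Scheme.Hom.appLE_eq_app]
    rfl
  have h4 := congrArg (Ideal.comap ((Scheme.Opens.ι V.1).appLE V.1 ⊤ hle).hom) h3
  rwa [Ideal.comap_map_of_bijective _ he, Ideal.comap_map_of_bijective _ he] at h4

theorem appTop_ideal {π : R} (hπ : Irreducible π) (V : X.affineOpens) :
    X.presheaf.map (homOfLE (le_top : V.1 ≤ ⊤)).op (Coh.toGlobal f π) ∈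
      (Models.specialFibreIdeal R (Over.mk f)).ideal V := by
  rw [ideal_specialFibre R f hπ V]
  exact Ideal.subset_span rfl

variable [Flat f]

/-- The uniformizer is a nonzerodivisor on the functions of an affine open. -/
theorem regular_affine {π : R} (hπ : π ≠ 0) (V : X.affineOpens) :
    IsLeftRegular (X.presheaf.map (homOfLE (le_top : V.1 ≤ ⊤)).op (Coh.toGlobal f π)) := by
  let e : (⊤ : (Spec (CommRingCat.of R)).Opens) = ⊤ := rfl
  let ψ : R →+* Γ(X, V.1) := (f.appLE ⊤ V.1 (by simp)).hom.comp (Scheme.ΓSpecIso (CommRingCat.of R)).inv.hom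
  have hψ : ψ.Flat := RingHom.Flat.comp
    (RingHom.Flat.of_bijective (ConcreteCategory.bijective_of_isIso (Scheme.ΓSpecIso (CommRingCat.of R)).inv))
    (HasRingHomProperty.appLE @Flat f inferInstance ⟨⊤, isAffineOpen_top _⟩ V _)
  have hc : ψ π = X.presheaf.map (homOfLE (le_top : V.1 ≤ ⊤)).op (Coh.toGlobal f π) := rfl
  rw [← hc]
  algebraize [ψ]
  have h1 : IsSMulRegular Γ(X, V.1) (ψ π) :=
    IsSMulRegular.of_flat (R := R) (S := Γ(X, V.1)) (x := π) (fun a b h => mul_left_cancel₀ hπ h)
  exact h1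

omit [Flat f] in
/-- The uniformizer kills the closed fibre. -/
theorem smulEnd_toSubscheme {π : R} (hπ : Irreducible π) :
    AVTheta.smulEnd (Coh.structureModule X) (Coh.toGlobal f π) ≫
      ClSub.toSubscheme (Models.specialFibreIdeal R (Over.mk f)) = 0 := by
  let I : X.IdealSheafData := Models.specialFibreIdeal R (Over.mk f)
  show AVTheta.smulEnd (Coh.structureModule X) (Coh.toGlobal f π) ≫ ClSub.toSubscheme I = 0
  refine Scheme.Modules.hom_ext _ _ fun U => ?_
  ext x
  refine QCoh.eq_zero_of_locally (M := ClSub.quotMod I) U _ fun p hp => ?_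
  obtain ⟨V, hV, hpV, hle⟩ := exists_isAffineOpen_mem_and_subset hp
  refine ⟨V, homOfLE hle, hpV, ?_⟩
  refine (QCoh.map_app_comm _ (homOfLE hle) x).symm.trans ?_
  show I.subschemeι.app V (X.presheaf.map (homOfLE (le_top : V ≤ ⊤)).op (Coh.toGlobal f π) *
    (show Γ(X, V) from (Coh.structureModule X).presheaf.map (homOfLE hle).op x)) = 0
  have h : X.presheaf.map (homOfLE (le_top : V ≤ ⊤)).op (Coh.toGlobal f π) ∈
      I.subschemeι.ker.ideal ⟨V, hV⟩ := by
    rw [Scheme.IdealSheafData.ker_subschemeι]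
    exact appTop_ideal R f hπ ⟨V, hV⟩
  rw [Scheme.Hom.ker_apply] at h
  have h' : I.subschemeι.app V (X.presheaf.map (homOfLE (le_top : V ≤ ⊤)).op (Coh.toGlobal f π)) = 0 :=
    RingHom.mem_ker.1 h
  rw [map_mul, h', zero_mul]

/-- Multiplication by the uniformizer identifies the structure sheaf with the ideal of the closed fibre. -/
theorem exists_iso {π : R} (hπ : Irreducible π) :
    ∃ q : Coh.structureModule X ≅ ClSub.idealMod (Models.specialFibreIdeal R (Over.mk f)),
      q.hom ≫ ClSub.idealModι _ = AVTheta.smulEnd (Coh.structureModule X) (Coh.toGlobal f π) := by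
  let I : X.IdealSheafData := Models.specialFibreIdeal R (Over.mk f)
  let q : Coh.structureModule X ⟶ ClSub.idealMod I := kernel.lift _ _ (smulEnd_toSubscheme R f hπ)
  have hq : q ≫ ClSub.idealModι I = AVTheta.smulEnd (Coh.structureModule X) (Coh.toGlobal f π) := kernel.lift_ι _ _ _
  have hO : Coh.IsQCoh (Coh.structureModule X) := QCoh.isQCoh_structureModule
  have hI : Coh.IsQCoh (ClSub.idealMod I) := QCoh.isQCoh_kernel hO (QCoh.isQCoh_pushforward I.subschemeι QCoh.isQCoh_structureModule) _
  haveI : Mono q := by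
    refine LimMod.mono_of_injective q (fun V : X.affineOpens => V.1) (fun V => V.2)
      (fun x => let ⟨U, hU, hx⟩ := QCoh.exists_affine_mem x; ⟨⟨U, hU⟩, hx⟩) hO hI fun V a b hab => ?_
    refine regular_affine R f hπ.ne_zero V ?_
    have := congrArg ((ClSub.idealModι I).app V.1) hab
    rw [← AddCommGrpCat.comp_apply, ← AddCommGrpCat.comp_apply, ← Scheme.Modules.Hom.comp_app, hq] at this
    exact this
  haveI : Mono (ClSub.idealModι I) := inferInstanceAs (Mono (kernel.ι _))
  haveI : Epi q := by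
    refine LimMod.epi_of_surjective q (fun V : X.affineOpens => V.1) (fun V => V.2)
      (fun x => let ⟨U, hU, hx⟩ := QCoh.exists_affine_mem x; ⟨⟨U, hU⟩, hx⟩) hO hI fun V z => ?_
    have h0 : I.subschemeι.app V.1 (show Γ(X, V.1) from (ClSub.idealModι I).app V.1 z) = 0 :=
      congrArg (fun ψ => Scheme.Modules.Hom.app ψ V.1 z) (kernel.condition (ClSub.toSubscheme I))
    have h1 : (show Γ(X, V.1) from (ClSub.idealModι I).app V.1 z) ∈ I.ideal V := by
      refine (le_of_eq (congrArg (fun J : X.IdealSheafData => J.ideal V) (Scheme.IdealSheafData.ker_subschemeι I))) ?_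
      rw [Scheme.Hom.ker_apply]
      exact h0
    rw [ideal_specialFibre R f hπ V, Ideal.mem_span_singleton'] at h1
    obtain ⟨a, ha⟩ := h1
    refine ⟨a, QCoh.app_injective (ClSub.idealModι I) V.1 ?_⟩
    rw [← AddCommGrpCat.comp_apply, ← Scheme.Modules.Hom.comp_app, hq]
    exact (mul_comm _ a).trans ha
  haveI := isIso_of_mono_of_epi q
  exact ⟨asIso q, hq⟩

theorem smul_eq_map [X.Over (Spec (CommRingCat.of R))] (r : R) (n : ℕ)
    (x : Coh.HH X (Coh.structureModule X) n) :
    r • x = Sheaf.H.map ((SheafOfModules.toSheaf X.ringCatSheaf).map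
      (AVTheta.smulEnd (Coh.structureModule X) (Coh.toGlobal (X ↘ Spec (CommRingCat.of R)) r))) n x := rfl

theorem surjective_iff [X.Over (Spec (CommRingCat.of R))] [Flat (X ↘ Spec (CommRingCat.of R))] :
    Function.Surjective (Sheaf.H.map ((SheafOfModules.toSheaf X.ringCatSheaf).map
      (ClSub.toSubscheme (Models.specialFibreIdeal R (Over.mk (X ↘ Spec (CommRingCat.of R)))))) 0) ↔
      NoZeroSMulDivisors R (Coh.HH X (Coh.structureModule X) 1) := by
  obtain ⟨π, hπ⟩ := IsDiscreteValuationRing.exists_irreducible R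
  set f := X ↘ Spec (CommRingCat.of R)
  set I := Models.specialFibreIdeal R (Over.mk f)
  obtain ⟨q, hq⟩ := exists_iso R f hπ
  let S := (ShortComplex.mk (ClSub.idealModι I) (ClSub.toSubscheme I) (kernel.condition _)).map (QCoh.toAbFunctor X)
  have hS : S.ShortExact := QCoh.toAb_shortExact (Big.shortExact_ideal I)
  have hcomp : ∀ x : Coh.HH X (Coh.structureModule X) 1, Sheaf.H.map S.f 1 (Sheaf.H.map ((QCoh.toAbFunctor X).map q.hom) 1 x) = π • x := fun x => by
    rw [smul_eq_map R π 1 x, ← hq, Functor.map_comp, Sheaf.H.map_comp_apply]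
    rfl
  have hqs : Function.Surjective (Sheaf.H.map ((QCoh.toAbFunctor X).map q.hom) 1) := fun y =>
    ⟨Sheaf.H.map ((QCoh.toAbFunctor X).map q.inv) 1 y, by rw [← Sheaf.H.map_comp_apply, ← Functor.map_comp, q.inv_hom_id,
      CategoryTheory.Functor.map_id, Sheaf.H.map_id_apply]⟩
  have hqi : Function.Injective (Sheaf.H.map ((QCoh.toAbFunctor X).map q.hom) 1) := fun a b hab => by
    have := congrArg (Sheaf.H.map ((QCoh.toAbFunctor X).map q.inv) 1) hab
    rwa [← Sheaf.H.map_comp_apply, ← Sheaf.H.map_comp_apply, ← Functor.map_comp, q.hom_inv_id,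
      CategoryTheory.Functor.map_id, Sheaf.H.map_id_apply, Sheaf.H.map_id_apply] at this
  constructor
  · intro hsur
    have hinj : ∀ y, Sheaf.H.map S.f 1 y = 0 → y = 0 := fun y hy => by
      obtain ⟨w, rfl⟩ := Abelian.Ext.covariant_sequence_exact₁ _ hS y hy rfl
      obtain ⟨v, rfl⟩ := hsur w
      show ((v.comp (Abelian.Ext.mk₀ S.g) (add_zero 0)).comp hS.extClass _) = 0
      rw [Abelian.Ext.comp_assoc_of_second_deg_zero, hS.comp_extClass, Abelian.Ext.comp_zero]
    have hπx : ∀ x : Coh.HH X (Coh.structureModule X) 1, π • x = 0 → x = 0 := fun x hx => by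
      refine hqi ((hinj _ ((hcomp x).trans hx)).trans (map_zero _).symm)
    refine @NoZeroSMulDivisors.mk R (Coh.HH X (Coh.structureModule X) 1) _ _ _ fun {r x} hrx => or_iff_not_imp_left.2 fun hr => ?_
    obtain ⟨n, u, rfl⟩ := IsDiscreteValuationRing.eq_unit_mul_pow_irreducible hr hπ
    rw [mul_smul] at hrx
    replace hrx : π ^ n • x = 0 := by
      have := congrArg (fun z => (↑u⁻¹ : R) • z) hrx
      rwa [smul_smul, Units.inv_mul, one_smul, smul_zero] at this
    clear hr
    induction n with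
    | zero => rwa [pow_zero, one_smul] at hrx
    | succ n ih =>
      rw [pow_succ', mul_smul] at hrx
      exact ih (hπx _ hrx)
  · intro h z
    have hδ : z.comp hS.extClass (zero_add 1) = 0 := by
      obtain ⟨x, hx⟩ : ∃ x : Coh.HH X (Coh.structureModule X) 1, Sheaf.H.map ((QCoh.toAbFunctor X).map q.hom) 1 x = z.comp hS.extClass (zero_add 1) := hqs _
      have h0 : π • x = 0 := by
        rw [← hcomp x, hx]
        show (z.comp hS.extClass (zero_add 1)).comp (Abelian.Ext.mk₀ S.f) (add_zero 1) = 0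
        rw [Abelian.Ext.comp_assoc_of_third_deg_zero, hS.extClass_comp, Abelian.Ext.comp_zero]
      rw [← hx, (NoZeroSMulDivisors.eq_zero_or_eq_zero_of_smul_eq_zero h0).resolve_left hπ.ne_zero, map_zero]
    exact Abelian.Ext.covariant_sequence_exact₃ _ hS z rfl hδ

end Groth.Agent.FlatH0
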